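import Cfsg.Agent.EqLemmas
import Cfsg.Agent.Lib.ChevBN.Facts

/-!
# The centraliser of a regular element of the diagonal subgroup

`mem_diagonal_of_commute`: if the values of a toral element at the roots are pairwise distinct and different
from one, an element of the group commuting with it is diagonal.
-/

set_option autoImplicit false

namespace Cfsg.Agent.ChevTorus

open Cfsg.Lie Cfsg.Lie.ChevalleyDatum Cfsg.Agent.Chev Cfsg.Agent.ChevBN
open scoped Matrix

variable {D : ChevalleyDatum} {M : List (List ℤ)} {d : ℤ} (hD : Good D) (hR : Roots D M d)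
  {F : Type*} [Field F]

include hD hR

/-- A word conjugates root elements to root elements, linearly in the parameter. -/
theorem nw_conj_xg (l : List (Fin D.rank)) (r : Fin D.nroots) :
    ∃ c : F, c ≠ 0 ∧ ∀ u : F, (chevRGD hD hR F).nw l * xg hD F r.val u =
      xg hD F ((chevRGD hD hR F).ww l r).val (c * u) * (chevRGD hD hR F).nw l := by
  induction l with
  | nil => exact ⟨1, one_ne_zero, fun u => by simp⟩
  | cons i l ih =>
    obtain ⟨c, hc, h⟩ := ih
    set q := (chevRGD hD hR F).ww l r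
    have hs : (nSign D (D.simple i.val) q.val : F) ≠ 0 := by
      rcases (nSign_cases hD (hD.simple_lt i.val i.isLt) q.isLt).1 with e | e <;> simp [e]
    refine ⟨(nSign D (D.simple i.val) q.val : F) * c, mul_ne_zero hs hc, fun u => ?_⟩
    have e := ng_conj_xg hD (F := F) i.isLt q.isLt (c * u)
    rw [mul_inv_eq_iff_eq_mul] at e
    show ng hD F (D.simple i.val) 1 * (chevRGD hD hR F).nw l * xg hD F r.val u =
      xg hD F (wN D i.val q.val) _ * (ng hD F (D.simple i.val) 1 * (chevRGD hD hR F).nw l)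
    rw [mul_assoc, h, ← mul_assoc, e, mul_assoc, mul_assoc]

/-- An element of the group commuting with a regular toral element is diagonal. -/
theorem mem_diagonal_of_commute {h : GL D.Idx F} (hh : h ∈ D.diagonalSubgroup F) {χ : ℕ → Fˣ}
    (hχ : (h : Matrix D.Idx D.Idx F) = dg χ) (hne : ∀ q < D.nroots, χ q ≠ 1)
    (hinj : ∀ p < D.nroots, ∀ q < D.nroots, χ p = χ q → p = q)
    {g : GL D.Idx F} (hg : g ∈ D.group F) (hc : g * h = h * g) : g ∈ D.diagonalSubgroup F := by
  let R := chevRGD hD hR F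
  -- `h` scales root elements by `χ`
  obtain ⟨χ', hχ', htor⟩ := isToral_of_mem hD hh
  have hscale : ∀ q < D.nroots, ∀ u : F, h * xg hD F q u = xg hD F q ((χ q : F) * u) * h := by
    intro q hq u
    have e := congrArg (fun N : Matrix D.Idx D.Idx F => N (Sum.inr ⟨q, hq⟩) (Sum.inr ⟨q, hq⟩))
      (hχ.symm.trans hχ')
    simp only [dg, Matrix.diagonal_apply_eq, Sum.elim_inr] at e
    rw [e]
    exact htor q u
  -- a unipotent element commuting with `h` is trivial
  have hU : ∀ u ∈ D.posUnipotent F, u * h = h * u → u = 1 := by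
    intro u hu hcu
    have ht := uTri_pos hD hR hu
    apply Units.ext
    ext a b
    by_cases hab : a = b
    · subst hab; rw [ht.2, Units.val_one, Matrix.one_apply_eq]
    rw [Units.val_one, Matrix.one_apply_ne hab]
    by_contra h0
    have e := congrArg (fun z : GL D.Idx F => (z : Matrix D.Idx D.Idx F) a b) hcu
    simp only [Units.val_mul, hχ, dg, Matrix.mul_diagonal, Matrix.diagonal_mul] at e
    rw [mul_comm ((u : Matrix D.Idx D.Idx F) a b)] at e
    have e2 := mul_right_cancel₀ h0 e
    rcases ht.1 a b h0 with h1 | h1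
    · exact hab h1
    rcases a with i | p <;> rcases b with j | q
    · simp [wt] at h1
    · exact hne q.val q.isLt (Units.ext (by simpa using e2))
    · exact hne p.val p.isLt (Units.ext (by simpa using e2.symm))
    · exact hab (congrArg Sum.inr (Fin.ext (hinj p.val p.isLt q.val q.isLt (Units.ext (by simpa using e2.symm)))))
  rw [← chev_G hD hR] at hg
  obtain ⟨b, hb, l, u, hu, rfl⟩ := R.exists_normalForm hg
  have hhH : h ∈ R.H := hh
  set m := R.nw l * h⁻¹ * (R.nw l)⁻¹ with hm
  have hmH : m ∈ R.H := R.nw_conj_H l (inv_mem hhH)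
  have hconj : h * u * h⁻¹ ∈ R.Uminus l := R.H_conj_span _ hhH _ hu
  have e : b * R.nw l * u = h * b * m * R.nw l * (h * u * h⁻¹) := by
    calc b * R.nw l * u = h * (b * R.nw l * u) * h⁻¹ := by rw [← hc, mul_inv_cancel_right]
      _ = _ := by rw [hm]; group
  obtain ⟨ebb, euu⟩ := R.normalForm_unique (k := 1) (one_mem _) (one_mul _).symm hb
    (mul_mem (mul_mem (R.H_le_B hhH) hb) (R.H_le_B hmH)) hu hconj e
  have hu1 : u = 1 := by
    refine hU u ?_ (eq_mul_inv_iff_mul_eq.1 euu)
    rw [← chev_Upos hD hR (F := F)]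
    exact R.Uminus_le_Upos l hu
  subst hu1
  obtain ⟨v, hv, t, ht, rfl⟩ := R.exists_B hb
  -- `v = 1` and `h` commutes with the word
  have hv1 : (h * v * h⁻¹) * (h * t * m) = v * t := by
    rw [ebb]; group
  have hvU : h * v * h⁻¹ ∈ R.Upos := R.H_conj_span _ hhH _ hv
  have h2 : v⁻¹ * (h * v * h⁻¹) = t * (h * t * m)⁻¹ := by
    rw [inv_mul_eq_iff_eq_mul, ← mul_assoc, ← hv1, mul_inv_cancel_right]
  have h3 : v⁻¹ * (h * v * h⁻¹) = 1 := by
    rw [← Subgroup.mem_bot, ← R.U_inf_H]
    exact ⟨R.Upos.mul_mem (R.Upos.inv_mem hv) hvU,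
      h2 ▸ R.H.mul_mem ht (R.H.inv_mem (R.H.mul_mem (R.H.mul_mem hhH ht) hmH))⟩
  have hvh : v = 1 := by
    refine hU v ?_ ?_
    · rw [← chev_Upos hD hR (F := F)]; exact hv
    · exact eq_mul_inv_iff_mul_eq.1 (inv_mul_eq_one.1 h3)
  subst hvh
  rw [h3] at h2
  have hcom : R.nw l * h = h * R.nw l := by
    have e1 : t = h * t * m := mul_inv_eq_one.1 h2.symm
    rw [show h * t = t * h from diag_commute hD hhH ht, mul_assoc, left_eq_mul] at e1
    have e2 : R.nw l * h * (R.nw l)⁻¹ = h := by
      have : h * (R.nw l * h⁻¹ * (R.nw l)⁻¹) = 1 := e1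
      calc R.nw l * h * (R.nw l)⁻¹ = (R.nw l * h⁻¹ * (R.nw l)⁻¹)⁻¹ := by group
        _ = h := inv_eq_of_mul_eq_one_left this
    exact mul_inv_eq_iff_eq_mul.1 e2
  -- the word fixes every root
  have hfix : ∀ r : Fin D.nroots, R.ww l r = r := by
    intro r
    obtain ⟨c, hc0, hlin⟩ := nw_conj_xg hD hR (F := F) l r
    have e1 : xg hD F (R.ww l r).val ((χ (R.ww l r).val : F) * c) * (h * R.nw l) =
        xg hD F (R.ww l r).val (c * (χ r.val : F)) * (h * R.nw l) := by
      calc xg hD F (R.ww l r).val ((χ (R.ww l r).val : F) * c) * (h * R.nw l)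
          = h * (xg hD F (R.ww l r).val (c * 1) * R.nw l) := by
            rw [mul_one, ← mul_assoc, ← hscale _ (R.ww l r).isLt, mul_assoc]
        _ = h * R.nw l * xg hD F r.val 1 := by rw [← hlin, mul_assoc]
        _ = R.nw l * (h * xg hD F r.val 1) := by rw [← hcom, mul_assoc]
        _ = R.nw l * xg hD F r.val (χ r.val : F) * h := by rw [hscale _ r.isLt, mul_one, mul_assoc]
        _ = _ := by rw [hlin, mul_assoc, hcom]
    have e2 := mul_right_cancel e1
    have e3 : xg hD F (R.ww l r).val ((χ (R.ww l r).val : F) * c + -(c * (χ r.val : F))) = 1 := by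
      rw [← xg_add hD (R.ww l r).isLt, e2, xg_add hD (R.ww l r).isLt, add_neg_cancel, xg_zero]
    have e4 := xg_eq_one hD (R.ww l r).isLt e3
    refine Fin.ext (hinj _ (R.ww l r).isLt _ r.isLt (Units.ext ?_))
    exact mul_right_cancel₀ hc0 (by linear_combination e4)
  have hn : R.nw l ∈ R.H := R.mem_H_of_pos fun r hr => by rw [hfix]; exact hr
  rw [one_mul, mul_one]
  exact R.H.mul_mem ht hn

end Cfsg.Agent.ChevTorus
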