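import Cfsg.Agent.EqLemmas

set_option autoImplicit false

/-!
`tableOK D`: consecutive entries of every chain of the tables of a Chevalley datum differ by the root `r`
(as read by `chainRoot`), and all indices are in range. Kernel-computed for the seven tabulated data.
Main: `tableOK_of_mem`, `chainCoeff_value` (a root character at the target of a chain coefficient).
-/

namespace Cfsg.Agent.ChevTorus

open Cfsg.Lie

/-- Consecutive entries of a chain list are one step of `r` apart. -/
def chainOK (D : ChevalleyDatum) (r : ℕ) : ℕ → List (ℕ × ℤ) → Bool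
  | _, [] => true
  | prev, u :: us => decide (u.1 < D.nroots) && (D.chainRoot r prev 1 == some u.1) && chainOK D r u.1 us

/-- The table check. -/
def tableOK (D : ChevalleyDatum) : Bool :=
  (List.range D.nroots).all fun r => (D.chain.getD r #[]).toList.all fun e =>
    decide (e.1 < D.nroots) && chainOK D r e.1 e.2.toList

theorem tableOK_G2 : tableOK chevG2 = true := by decide +kernel
theorem tableOK_B2 : tableOK chevB2 = true := by decide +kernel
theorem tableOK_D4 : tableOK chevD4 = true := by decide +kernel
theorem tableOK_F4 : tableOK chevF4 = true := by decide +kernel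
theorem tableOK_E6 : tableOK chevE6 = true := by decide +kernel
theorem tableOK_E7 : tableOK chevE7 = true := by decide +kernel
theorem tableOK_E8 : tableOK chevE8 = true := by decide +kernel

theorem tableOK_of_mem (D : ChevalleyDatum)
    (hD : D ∈ [chevG2, chevB2, chevD4, chevF4, chevE6, chevE7, chevE8]) : tableOK D = true := by
  simp only [List.mem_cons, List.not_mem_nil, or_false] at hD
  rcases hD with rfl | rfl | rfl | rfl | rfl | rfl | rfl
  exacts [tableOK_G2, tableOK_B2, tableOK_D4, tableOK_F4, tableOK_E6, tableOK_E7, tableOK_E8]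

theorem chainOK_value {F : Type*} [Field F] (D : ChevalleyDatum) (χ : ℕ → Fˣ)
    (hχ : D.IsRootCharacter χ) (r : ℕ) (hr : r < D.nroots) :
    ∀ (L : List (ℕ × ℤ)) (s : ℕ), s < D.nroots → chainOK D r s L = true →
      ∀ (k : ℕ) (u : ℕ × ℤ), L[k]? = some u → χ u.1 = χ r ^ (k + 1) * χ s := by
  intro L
  induction L with
  | nil => intro s _ _ k u hu; simp at hu
  | cons a L ih =>
    intro s hs h k u hu
    simp only [chainOK, Bool.and_eq_true, decide_eq_true_eq, beq_iff_eq] at h
    obtain ⟨⟨ha, hstep⟩, hrest⟩ := h
    have h1 : χ a.1 = χ r * χ s := hχ.2 r s a.1 hr hs hstep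
    cases k with
    | zero =>
      simp only [List.getElem?_cons_zero, Option.some.injEq] at hu
      subst hu; simp [h1]
    | succ k =>
      simp only [List.getElem?_cons_succ] at hu
      rw [ih a.1 ha hrest k u hu, h1, pow_succ (χ r) (k + 1)]
      simp [mul_assoc]

theorem chainCoeff_value {F : Type*} [Field F] (D : ChevalleyDatum) (hT : tableOK D = true) (χ : ℕ → Fˣ)
    (hχ : D.IsRootCharacter χ) (r : ℕ) (hr : r < D.nroots) (s u : ℕ) (km : ℕ × ℤ)
    (h : km ∈ D.chainCoeff r s u) : χ u = χ r ^ km.1 * χ s := by
  simp only [ChevalleyDatum.chainCoeff, List.mem_flatMap, List.mem_filter, List.mem_map,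
    decide_eq_true_eq] at h
  obtain ⟨e, ⟨he, rfl⟩, q, ⟨hq, hqu⟩, rfl⟩ := h
  simp only [tableOK, List.all_eq_true, List.mem_range, Bool.and_eq_true, decide_eq_true_eq] at hT
  obtain ⟨hes, hok⟩ := hT r hr e he
  have := chainOK_value D χ hχ r hr _ _ hes hok q.2 q.1 (List.mem_zipIdx_iff_getElem?.mp hq)
  rw [← hqu]; exact this

end Cfsg.Agent.ChevTorus
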